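import Groth.Agent.CurveBC.Main
import Groth.Agent.FibDim.BaseField

/-!
Invariants of the pullbacks of a family of curves to fields.
-/

noncomputable section

set_option autoImplicit false
set_option linter.style.haveILetI false
set_option backward.isDefEq.respectTransparency false
set_option backward.isDefEq.respectTransparency.types false

universe u

open CategoryTheory CategoryTheory.Limits AlgebraicGeometry

namespace Groth.Agent.AutCurve

variable {X S : Scheme.{u}} (f : X ⟶ S) [IsProper f] (g : ℕ)
  (hdim : ∀ s : S, topologicalKrullDim ↥(f.fiber s) = 1)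
  (hgen : ∀ s : S, letI : (f.fiber s).Over (Spec (S.residueField s)) := ⟨f.fiberToSpecResidueField s⟩
      Curv2.genus (S.residueField s) (f.fiber s) = g)

include hdim hgen

theorem invariants_of_field {k : Type u} [Field k] (p : Spec (CommRingCat.of k) ⟶ S) {X' : Scheme.{u}}
    (q : X' ⟶ X) (p' : X' ⟶ Spec (CommRingCat.of k)) (hc : IsPullback q p' f p) :
    topologicalKrullDim ↥X' = 1 ∧
      (letI : X'.Over (Spec (CommRingCat.of k)) := ⟨p'⟩; Curv2.genus k X' = g) := by
  letI : X'.Over (Spec (CommRingCat.of k)) := ⟨p'⟩
  obtain ⟨⟨s, φ⟩, rfl⟩ := (Scheme.SpecToEquivOfField k S).symm.surjective p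
  letI : (f.fiber s).Over (Spec (CommRingCat.of (S.residueField s))) := ⟨f.fiberToSpecResidueField s⟩
  letI : Algebra (S.residueField s) k := φ.hom.toAlgebra
  let q' : X' ⟶ f.fiber s := pullback.lift q (p' ≫ Spec.map φ) (by rw [hc.w, Category.assoc]; rfl)
  have hsq : IsPullback q' p' (f.fiberToSpecResidueField s) (Spec.map φ) := by
    refine IsPullback.of_right ?_ (pullback.lift_snd _ _ _)
      (IsPullback.of_hasPullback f (S.fromSpecResidueField s))
    rw [show q' ≫ pullback.fst f (S.fromSpecResidueField s) = q from pullback.lift_fst _ _ _]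
    exact hc
  haveI : IsProper (f.fiberToSpecResidueField s) :=
    inferInstanceAs (IsProper (pullback.snd f (S.fromSpecResidueField s)))
  haveI : IsProper p' := MorphismProperty.of_isPullback hsq ‹IsProper (f.fiberToSpecResidueField s)›
  haveI : CompactSpace ↥(f.fiber s) :=
    QuasiCompact.compactSpace_of_compactSpace (f.fiberToSpecResidueField s)
  haveI : QuasiSeparatedSpace ↥(f.fiber s) :=
    quasiSeparatedSpace_of_quasiSeparated (f.fiberToSpecResidueField s)
  haveI : Subsingleton ↥(Spec (CommRingCat.of k)) := inferInstanceAs (Subsingleton (PrimeSpectrum k))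
  haveI : Nonempty ↥(Spec (CommRingCat.of k)) := inferInstanceAs (Nonempty (PrimeSpectrum k))
  haveI : Subsingleton ↥(Spec (S.residueField s)) :=
    inferInstanceAs (Subsingleton (PrimeSpectrum (S.residueField s)))
  exact ⟨(FibDim.topologicalKrullDim_baseChange hsq).trans (hdim s),
    (CurveBC.genus_eq (S.residueField s) k q' hsq).trans (hgen s)⟩

theorem invariants_fiber {T X' : Scheme.{u}} (π : T ⟶ S) (q : X' ⟶ X) (f' : X' ⟶ T)
    (hc : IsPullback q f' f π) (t : T) :
    topologicalKrullDim ↥(f'.fiber t) = 1 ∧
      (letI : (f'.fiber t).Over (Spec (T.residueField t)) := ⟨f'.fiberToSpecResidueField t⟩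
       Curv2.genus (T.residueField t) (f'.fiber t) = g) :=
  invariants_of_field f g hdim hgen (k := T.residueField t) (T.fromSpecResidueField t ≫ π) _ _
    ((IsPullback.of_hasPullback f' (T.fromSpecResidueField t)).paste_horiz hc)

end Groth.Agent.AutCurve
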