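import Groth.Agent.AutCurve.Unram
import Groth.Agent.AutCurve.Invariants
import Groth.Agent.CurveExt.Main
import Groth.Agent.S18894
import Groth.Agent.H9DefAut.Forward
import Groth.Agent.CurveFF.Facts
import Groth.Agent.Lib.CurveStable
import Groth.Agent.Proj16.DVRCrit
import Groth.Agent.AlgSpLib.EtLocalInst
import Groth.Prelude.Def_AutSch
import Mathlib.AlgebraicGeometry.ZariskisMainTheorem

/-!
The automorphism scheme of a smooth curve of genus at least two is finite and unramified.
-/

noncomputable section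

set_option autoImplicit false
set_option linter.style.haveILetI false
set_option linter.unusedSectionVars false
set_option backward.isDefEq.respectTransparency false
set_option backward.isDefEq.respectTransparency.types false

universe u

open CategoryTheory CategoryTheory.Limits AlgebraicGeometry
open MonoidalCategory CartesianMonoidalCategory

namespace Groth.Agent.AutCurve

variable {S : Scheme.{u}} (X : Over S)

theorem whisker_fst {T T' : Over S} (u : T ⟶ T') :
    (X ◁ u).left ≫ (fst X T').left = (fst X T).left :=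
  congrArg CommaMorphism.left (whiskerLeft_fst X u)

theorem whisker_snd {T T' : Over S} (u : T ⟶ T') :
    (X ◁ u).left ≫ (snd X T').left = (snd X T).left ≫ u.left :=
  congrArg CommaMorphism.left (whiskerLeft_snd X u)

theorem isPullback_left (T : Over S) :
    IsPullback (fst X T).left (snd X T).left X.hom T.hom :=
  IsPullback.of_hasPullback X.hom T.hom

theorem whisker_isPullback {T T' : Over S} (u : T ⟶ T') :
    IsPullback (X ◁ u).left (snd X T).left (snd X T').left u.left := by
  refine IsPullback.of_right ?_ (whisker_snd X u) (isPullback_left X T')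
  rw [whisker_fst, Over.w u]
  exact isPullback_left X T

theorem endOf_pullFam {T T' : Over S} (u : T ⟶ T') (φ : X ⊗ T' ⟶ X) :
    (X ◁ u) ≫ AutSch.endOf φ = AutSch.endOf (AutSch.pullFam u φ) ≫ (X ◁ u) := by
  refine CartesianMonoidalCategory.hom_ext _ _ ?_ ?_
  · rw [Category.assoc, AutSch.endOf_fst, Category.assoc, whiskerLeft_fst, AutSch.endOf_fst]
    rfl
  · rw [Category.assoc, AutSch.endOf_snd, Category.assoc, whiskerLeft_snd, AutSch.endOf_snd_assoc]

open scoped MonObj GrpObj

variable {X} {G : Over S} [GrpObj G] (a : AlgGrp.Action G X)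

open MonObj in
theorem famOf_one (T : Over S) : AutSch.famOf a (1 : T ⟶ G) = fst X T := by
  have h := congrArg (fun w => lift (toUnit (X ⊗ T)) (fst X T) ≫ w) a.one_act
  simp only [lift_whiskerRight_assoc] at h
  rw [lift_leftUnitor_hom] at h
  refine Eq.trans ?_ h
  rw [AutSch.famOf, Hom.one_def, ← Category.assoc (snd X T)]
  exact congrArg (fun w => lift (w ≫ η[G]) (fst X T) ≫ a.act) (toUnit_unique _ _)

open MonObj in
theorem endOf_comp {T : Over S} (g h : T ⟶ G) :
    AutSch.endOf (AutSch.famOf a h) ≫ AutSch.endOf (AutSch.famOf a g) =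
      AutSch.endOf (AutSch.famOf a (g * h)) := by
  refine CartesianMonoidalCategory.hom_ext _ _ ?_ ?_
  · rw [Category.assoc, AutSch.endOf_fst, AutSch.endOf_fst]
    conv_lhs => arg 2; rw [AutSch.famOf]
    rw [comp_lift_assoc, AutSch.endOf_snd_assoc, AutSch.endOf_fst]
    have h' := congrArg (fun w => lift (lift (snd X T ≫ g) (snd X T ≫ h)) (fst X T) ≫ w) a.mul_act
    simp only [lift_whiskerRight_assoc, lift_lift_associator_hom_assoc, lift_whiskerLeft_assoc] at h'
    rw [AutSch.famOf, AutSch.famOf, Hom.mul_def, ← Category.assoc (snd X T), comp_lift, h']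
  · rw [Category.assoc, AutSch.endOf_snd, AutSch.endOf_snd, AutSch.endOf_snd]

open MonObj GrpObj in
theorem isAutFamily_famOf {T : Over S} (g : T ⟶ G) : AutSch.IsAutFamily (AutSch.famOf a g) := by
  have h1 : AutSch.endOf (AutSch.famOf a (1 : T ⟶ G)) = 𝟙 _ := by
    rw [famOf_one]
    refine CartesianMonoidalCategory.hom_ext _ _ ?_ ?_
    · rw [AutSch.endOf_fst, Category.id_comp]
    · rw [AutSch.endOf_snd, Category.id_comp]
  exact ⟨AutSch.endOf (AutSch.famOf a g⁻¹), by rw [endOf_comp, inv_mul_cancel, h1],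
    by rw [endOf_comp, mul_inv_cancel, h1]⟩

variable [IsProper X.hom] [Smooth X.hom] [GeometricallyConnected X.hom]
  (hdim : ∀ s : S, topologicalKrullDim ↥(X.hom.fiber s) = 1) (g : ℕ) (hg : 2 ≤ g)
  (hgen : ∀ s : S, letI : (X.hom.fiber s).Over (Spec (S.residueField s)) := ⟨X.hom.fiberToSpecResidueField s⟩
    Curv2.genus (S.residueField s) (X.hom.fiber s) = g)
  (hG : AutSch.Represents X G a)

include hdim hg hgen hG

/-- Infinitesimal automorphisms vanish. -/
theorem formallyUnramified [LocallyOfFiniteType G.hom] : FormallyUnramified G.hom := by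
  refine formallyUnramified_of_dual G.hom fun k _ _ s v₁ v₂ h₁ h₂ hv => ?_
  let T : Over S := Over.mk (Spec.map (CommRingCat.ofHom (algebraMap k (DualNumber k))) ≫ s)
  let T₀ : Over S := Over.mk s
  let A : ArtFun.Art k k := ArtFun.Art.dual k k
  have hsec : ArtFun.Art.specRes A ≫ Spec.map (CommRingCat.ofHom (algebraMap k (DualNumber k))) = 𝟙 _ :=
    (Spec.map_comp _ _).symm.trans ((congrArg Spec.map
      (CommRingCat.hom_ext (RingHom.ext fun c => A.res.commutes c))).trans (Spec.map_id _))
  let i₀ : T₀ ⟶ T := Over.homMk (ArtFun.Art.specRes A) (by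
    show ArtFun.Art.specRes A ≫ _ ≫ s = s
    rw [← Category.assoc, hsec, Category.id_comp])
  let g₁ : T ⟶ G := Over.homMk v₁ h₁
  let g₂ : T ⟶ G := Over.homMk v₂ h₂
  have hi₀ : i₀ ≫ g₁ = i₀ ≫ g₂ := Over.OverMorphism.ext hv
  let x : (X ⊗ T₀).left ⟶ Spec (CommRingCat.of k) := (snd X T₀).left
  haveI : IsProper x := inferInstanceAs (IsProper (pullback.snd X.hom s))
  haveI : Smooth x := inferInstanceAs (Smooth (pullback.snd X.hom s))
  haveI : GeometricallyConnected x := inferInstanceAs (GeometricallyConnected (pullback.snd X.hom s))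
  letI : (X ⊗ T₀).left.Over (Spec (CommRingCat.of k)) := ⟨x⟩
  haveI : IsProper ((X ⊗ T₀).left ↘ Spec (CommRingCat.of k)) := ‹IsProper x›
  haveI : Smooth ((X ⊗ T₀).left ↘ Spec (CommRingCat.of k)) := ‹Smooth x›
  haveI : GeometricallyConnected ((X ⊗ T₀).left ↘ Spec (CommRingCat.of k)) := ‹GeometricallyConnected x›
  haveI : IsIntegral (X ⊗ T₀).left := CurveStable.isIntegral_of_geometricallyConnected k
  obtain ⟨hd, hgk⟩ := invariants_of_field X.hom g hdim hgen s _ x (isPullback_left X T₀)
  haveI : Subsingleton (Omega.sheaf x ⟶ Coh.structureModule (X ⊗ T₀).left) :=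
    ⟨fun θ θ' => (CurveFF.hom_Ωm_eq_zero k hd (hg.trans_eq hgk.symm) θ).trans
      (CurveFF.hom_Ωm_eq_zero k hd (hg.trans_eq hgk.symm) θ').symm⟩
  let ξ : ArtFun.DefSch (X ⊗ T₀).left x A :=
    ⟨(X ⊗ T).left, (snd X T).left, inferInstanceAs (Flat (pullback.snd X.hom T.hom)), (X ◁ i₀).left,
      whisker_isPullback X i₀⟩
  haveI : IsIso (AutSch.endOf (AutSch.famOf a g₁)) := isAutFamily_famOf a g₁
  haveI : IsIso (AutSch.endOf (AutSch.famOf a g₂)) := isAutFamily_famOf a g₂
  let E := asIso (AutSch.endOf (AutSch.famOf a g₂)) ≪≫ (asIso (AutSch.endOf (AutSch.famOf a g₁))).symm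
  have hEsnd : E.hom ≫ snd X T = snd X T := by
    show (_ ≫ inv _) ≫ _ = _
    rw [Category.assoc, show inv (AutSch.endOf (AutSch.famOf a g₁)) ≫ snd X T = snd X T from
      (IsIso.inv_comp_eq _).2 (AutSch.endOf_snd _).symm, asIso_hom, AutSch.endOf_snd]
  have hEi : (X ◁ i₀) ≫ E.hom = X ◁ i₀ := by
    show (X ◁ i₀) ≫ _ ≫ inv _ = _
    rw [← Category.assoc, asIso_hom, IsIso.comp_inv_eq, endOf_pullFam, endOf_pullFam, ← AutSch.famOf_comp,
      ← AutSch.famOf_comp, hi₀]
  have hid := H9DefAut.iso_hom_eq_id ξ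
    ⟨(Over.forget S).mapIso E, congrArg CommaMorphism.left hEsnd, congrArg CommaMorphism.left hEi⟩
  have hE : E.hom = 𝟙 _ := Over.OverMorphism.ext hid
  have heq : AutSch.endOf (AutSch.famOf a g₂) = AutSch.endOf (AutSch.famOf a g₁) := by
    have := congrArg (· ≫ AutSch.endOf (AutSch.famOf a g₁)) hE
    simpa [E] using this
  have hfam : AutSch.famOf a g₁ = AutSch.famOf a g₂ := by
    rw [← AutSch.endOf_fst (AutSch.famOf a g₁), ← heq, AutSch.endOf_fst]
  have := ((AutSch.represents_iff G a).1 hG T _ (isAutFamily_famOf a g₁)).unique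
    (y₁ := g₁) (y₂ := g₂) rfl hfam.symm
  exact congrArg CommaMorphism.left this

/-- Automorphisms of generic fibres extend over traits. -/
theorem dvrExistence : Proj16.DVRExistence G.hom := by
  intro A _ _ _ xp y hxy
  let η₁ := Spec.map (CommRingCat.ofHom (algebraMap A (FractionRing A)))
  let T : Over S := Over.mk y
  let TK : Over S := Over.mk (η₁ ≫ y)
  let j : TK ⟶ T := Over.homMk η₁ rfl
  let xK : TK ⟶ G := Over.homMk xp hxy
  let f : (X ⊗ T).left ⟶ Spec (CommRingCat.of A) := (snd X T).left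
  haveI : IsProper f := inferInstanceAs (IsProper (pullback.snd X.hom y))
  haveI : Smooth f := inferInstanceAs (Smooth (pullback.snd X.hom y))
  haveI : GeometricallyConnected f := inferInstanceAs (GeometricallyConnected (pullback.snd X.hom y))
  haveI : IsIntegral (X ⊗ T).left := CurveExt.isIntegral f
  haveI : IsOpenImmersion η₁ := H9FlatCl.isOpenImmersion_generic A
  have hsq : IsPullback (X ◁ j).left (snd X TK).left f η₁ := whisker_isPullback X j
  haveI : IsIso (AutSch.endOf (AutSch.famOf a xK)) := isAutFamily_famOf a xK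
  let Φ : (X ⊗ TK).left ≅ (X ⊗ TK).left := (Over.forget S).mapIso (asIso (AutSch.endOf (AutSch.famOf a xK)))
  have hΦ : Φ.hom ≫ (snd X TK).left = (snd X TK).left := congrArg CommaMorphism.left (AutSch.endOf_snd _)
  have hinv := fun s => invariants_fiber X.hom g hdim hgen y _ f (isPullback_left X T) s
  obtain ⟨e, he, hej⟩ : ∃ e : (X ⊗ T).left ≅ (X ⊗ T).left, e.hom ≫ f = f ∧
      (X ◁ j).left ≫ e.hom = Φ.hom ≫ (X ◁ j).left := by
    haveI : IsOpenImmersion (X ◁ j).left :=
      MorphismProperty.of_isPullback hsq.flip ‹IsOpenImmersion η₁›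
    let φ : pullback f η₁ ≅ pullback f η₁ := hsq.isoPullback.symm ≪≫ Φ ≪≫ hsq.isoPullback
    have hφ : φ.hom ≫ pullback.snd f η₁ = pullback.snd f η₁ := by
      rw [← cancel_epi hsq.isoPullback.hom]
      simp only [φ, Iso.trans_hom, Iso.symm_hom, Category.assoc, Iso.hom_inv_id_assoc]
      rw [hsq.isoPullback_hom_snd]
      exact hΦ
    obtain ⟨e, he, hej, -⟩ := S18894.result f f (fun s => (hinv s).1) (fun s => (hinv s).1) g (le_of_lt hg)
      (fun s => (hinv s).2) (fun s => (hinv s).2) η₁ rfl φ hφ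
    refine ⟨e, he, ?_⟩
    rw [← hsq.isoPullback_hom_fst, Category.assoc]
    rw [hej]
    simp only [φ, Iso.trans_hom, Iso.symm_hom, Category.assoc, Iso.hom_inv_id_assoc]
  let ψ : X ⊗ T ⟶ X := Over.homMk (e.hom ≫ (fst X T).left) (by
    show (e.hom ≫ (fst X T).left) ≫ X.hom = _
    rw [Category.assoc, (isPullback_left X T).w, ← Category.assoc, he]
    exact Over.w (snd X T))
  let E : X ⊗ T ≅ X ⊗ T := Over.isoMk e (by
    rw [← Over.w (snd X T)]
    exact (Category.assoc _ _ _).symm.trans (congrArg (· ≫ T.hom) he))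
  have hψ : AutSch.endOf ψ = E.hom := CartesianMonoidalCategory.hom_ext _ _
    (by rw [AutSch.endOf_fst]; exact Over.OverMorphism.ext rfl)
    (by rw [AutSch.endOf_snd]; exact Over.OverMorphism.ext he.symm)
  have hψa : AutSch.IsAutFamily ψ := by
    show IsIso (AutSch.endOf ψ)
    rw [hψ]; infer_instance
  obtain ⟨gA, hgA, -⟩ := (AutSch.represents_iff G a).1 hG T ψ hψa
  have hkey : AutSch.famOf a (j ≫ gA) = AutSch.famOf a xK := by
    rw [AutSch.famOf_comp, hgA]
    refine Over.OverMorphism.ext ?_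
    show (X ◁ j).left ≫ e.hom ≫ (fst X T).left = _
    rw [← Category.assoc, hej, Category.assoc, whisker_fst]
    exact congrArg CommaMorphism.left (AutSch.endOf_fst (AutSch.famOf a xK))
  refine ⟨gA.left, Over.w gA, ?_⟩
  exact congrArg CommaMorphism.left
    (((AutSch.represents_iff G a).1 hG TK _ (isAutFamily_famOf a xK)).unique
      (y₁ := j ≫ gA) (y₂ := xK) hkey rfl)

/-- The automorphism scheme is finite and unramified. -/
theorem isFinite_and_formallyUnramified [IsLocallyNoetherian S] [LocallyOfFiniteType G.hom]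
    [QuasiCompact G.hom] [IsSeparated G.hom] : IsFinite G.hom ∧ FormallyUnramified G.hom := by
  haveI := formallyUnramified a hdim g hg hgen hG
  haveI := AlgSpLib.locallyQuasiFinite_of_formallyUnramified G.hom
  haveI : IsProper G.hom := Proj16.isProper_of_dvr G.hom (dvrExistence a hdim g hg hgen hG)
    (Proj16.dvrUniqueness_of_isSeparated G.hom)
  exact ⟨IsFinite.of_isProper_of_locallyQuasiFinite G.hom, inferInstance⟩

end Groth.Agent.AutCurve
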