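import Mathlib.AlgebraicGeometry.Morphisms.FormallyUnramified
import Mathlib.AlgebraicGeometry.Morphisms.FiniteType
import Mathlib.RingTheory.Nakayama
import Mathlib.Algebra.DualNumber
import Mathlib.FieldTheory.IsAlgClosed.AlgebraicClosure

/-!
A morphism locally of finite type is unramified when points with values in dual numbers over
algebraically closed fields are determined by their restrictions.
-/

noncomputable section

set_option autoImplicit false
set_option linter.style.haveILetI false
set_option backward.isDefEq.respectTransparency false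
set_option backward.isDefEq.respectTransparency.types false

universe u

open CategoryTheory CategoryTheory.Limits AlgebraicGeometry TrivSqZeroExt

namespace Groth.Agent.AutCurve

theorem exists_dual_pair (A B : Type u) [CommRing A] [CommRing B] [Algebra A B]
    (hfin : Module.Finite B Ω[B⁄A]) [Nontrivial Ω[B⁄A]] :
    ∃ (k : Type u) (_ : Field k) (_ : IsAlgClosed k) (g₁ g₂ : B →+* DualNumber k) (ev : A →+* k),
      (∀ a, g₁ (algebraMap A B a) = algebraMap k (DualNumber k) (ev a)) ∧
      (∀ a, g₂ (algebraMap A B a) = algebraMap k (DualNumber k) (ev a)) ∧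
      (∀ b, (g₁ b).fst = (g₂ b).fst) ∧ g₁ ≠ g₂ := by
  obtain ⟨m, hm, hle⟩ := Ideal.exists_le_maximal (Module.annihilator B Ω[B⁄A]) fun e =>
    not_subsingleton Ω[B⁄A] ((Module.annihilator_eq_top_iff).1 e)
  have hne : m • (⊤ : Submodule B Ω[B⁄A]) ≠ ⊤ := fun e => by
    obtain ⟨r, hr, hr0⟩ := Submodule.exists_sub_one_mem_and_smul_eq_zero_of_fg_of_le_smul m ⊤ hfin.fg_top e.ge
    have : r ∈ m := hle (Module.mem_annihilator.2 fun x => hr0 x trivial)
    exact hm.ne_top ((Ideal.eq_top_iff_one m).2 (by simpa using m.sub_mem this hr))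
  let Q := Ω[B⁄A] ⧸ (m • (⊤ : Submodule B Ω[B⁄A]))
  haveI : Nontrivial Q := Submodule.Quotient.nontrivial_iff.2 hne
  letI := Ideal.Quotient.field m
  obtain ⟨w, hw⟩ := exists_ne (0 : Q)
  obtain ⟨φ, hφ⟩ := Module.Projective.exists_dual_ne_zero (B ⧸ m) hw
  let k := AlgebraicClosure (B ⧸ m)
  let ι : B ⧸ m →+* k := algebraMap (B ⧸ m) k
  let ev : B →+* k := ι.comp (Ideal.Quotient.mk m)
  let d : B → k := fun b => ι (φ (Submodule.Quotient.mk (KaehlerDifferential.D A B b)))
  have hsmul : ∀ (b : B) (x : Q), φ (b • x) = Ideal.Quotient.mk m b * φ x := fun b x =>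
    (congrArg φ (algebraMap_smul (B ⧸ m) b x).symm).trans (map_smul φ _ _)
  have hadd : ∀ b b', d (b + b') = d b + d b' := fun b b' => by simp [d]
  have hmul : ∀ b b', d (b * b') = ev b * d b' + ev b' * d b := fun b b' => by
    simp only [d, Derivation.leibniz, Submodule.Quotient.mk_add, Submodule.Quotient.mk_smul, map_add, hsmul,
      map_mul]
    rfl
  have hA : ∀ a, d (algebraMap A B a) = 0 := fun a => by simp [d]
  let g₁ : B →+* DualNumber k :=
    { toFun := fun b => inl (ev b) + inr (d b)
      map_one' := by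
        have h1 : d 1 = 0 := by simp [d]
        apply TrivSqZeroExt.ext <;> simp [h1]
      map_mul' := fun a b => by
        apply TrivSqZeroExt.ext
        · simp
        · simp [hmul, mul_comm]
      map_zero' := by
        have h0 : d 0 = 0 := by simp [d]
        apply TrivSqZeroExt.ext <;> simp [h0]
      map_add' := fun a b => by
        show (inl (ev (a + b)) + inr (d (a + b)) : DualNumber k) = _
        rw [map_add, hadd, inl_add, inr_add]
        abel }
  refine ⟨k, inferInstance, inferInstance, g₁, (algebraMap k (DualNumber k)).comp ev,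
    ev.comp (algebraMap A B), fun a => ?_, fun a => rfl, fun b => ?_, fun h => ?_⟩
  · show inl (ev (algebraMap A B a)) + inr (d (algebraMap A B a)) = _
    rw [hA, inr_zero, add_zero]
    rfl
  · show (inl (ev b) + inr (d b) : DualNumber k).fst = _
    simp [TrivSqZeroExt.algebraMap_eq_inl]
  · refine hφ ?_
    have hd : ∀ b, φ (Submodule.Quotient.mk (KaehlerDifferential.D A B b)) = 0 := fun b => by
      refine ι.injective ?_
      rw [map_zero]
      have h1 := congrArg TrivSqZeroExt.snd (RingHom.congr_fun h b)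
      simp [g₁, TrivSqZeroExt.algebraMap_eq_inl] at h1
      exact h1
    obtain ⟨w, rfl⟩ := Submodule.Quotient.mk_surjective _ w
    clear hw hφ
    have hwm : w ∈ Submodule.span B (Set.range (KaehlerDifferential.D A B)) := by
      rw [KaehlerDifferential.span_range_derivation]; trivial
    induction hwm using Submodule.span_induction with
    | mem y hy => obtain ⟨b, rfl⟩ := hy; exact hd b
    | zero => exact map_zero φ
    | add a b _ _ ha hb => rw [Submodule.Quotient.mk_add, map_add, ha, hb, add_zero]
    | smul r a _ ha => rw [Submodule.Quotient.mk_smul, hsmul, ha, mul_zero]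

/-- The criterion with dual numbers. -/
theorem formallyUnramified_of_dual {X S : Scheme.{u}} (p : X ⟶ S) [LocallyOfFiniteType p]
    (H : ∀ (k : Type u) [Field k] [IsAlgClosed k] (s : Spec (CommRingCat.of k) ⟶ S)
      (v₁ v₂ : Spec (CommRingCat.of (DualNumber k)) ⟶ X),
      v₁ ≫ p = Spec.map (CommRingCat.ofHom (algebraMap k (DualNumber k))) ≫ s →
      v₂ ≫ p = Spec.map (CommRingCat.ofHom (algebraMap k (DualNumber k))) ≫ s →
      Spec.map (CommRingCat.ofHom (TrivSqZeroExt.fstHom k k k).toRingHom) ≫ v₁ =
        Spec.map (CommRingCat.ofHom (TrivSqZeroExt.fstHom k k k).toRingHom) ≫ v₂ →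
      v₁ = v₂) : FormallyUnramified p := by
  rw [HasRingHomProperty.iff_appLE (P := @FormallyUnramified)]
  intro U V e
  have hft := HasRingHomProperty.appLE @LocallyOfFiniteType p ‹_› U V e
  algebraize [(p.appLE U.1 V.1 e).hom]
  show Algebra.FormallyUnramified Γ(S, U) Γ(X, V)
  refine ⟨not_nontrivial_iff_subsingleton.1 fun hnt => ?_⟩
  obtain ⟨k, _, _, g₁, g₂, ev, hA₁, hA₂, hfst, hne⟩ :=
    exists_dual_pair Γ(S, U) Γ(X, V) inferInstance
  have hp : ∀ g : Γ(X, V) →+* DualNumber k,
      (∀ a, g (algebraMap Γ(S, U) Γ(X, V) a) = algebraMap k (DualNumber k) (ev a)) →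
      (Spec.map (CommRingCat.ofHom g) ≫ V.2.fromSpec) ≫ p =
        Spec.map (CommRingCat.ofHom (algebraMap k (DualNumber k))) ≫
          Spec.map (CommRingCat.ofHom ev) ≫ U.2.fromSpec := fun g hg => by
    rw [Category.assoc, ← IsAffineOpen.SpecMap_appLE_fromSpec p U.2 V.2 e, ← Spec.map_comp_assoc,
      ← Spec.map_comp_assoc]
    exact congrArg (Spec.map · ≫ U.2.fromSpec) (CommRingCat.hom_ext (RingHom.ext hg))
  refine hne (congrArg CommRingCat.Hom.hom (Spec.map_injective ((cancel_mono V.2.fromSpec).1
    (H k _ _ _ (hp g₁ hA₁) (hp g₂ hA₂) ?_))))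
  rw [← Spec.map_comp_assoc, ← Spec.map_comp_assoc]
  exact congrArg (Spec.map · ≫ V.2.fromSpec) (CommRingCat.hom_ext (RingHom.ext hfst))

end Groth.Agent.AutCurve
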